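import Groth.Agent.SepClosedLib.Alg
import Groth.Agent.AlgSpLib.Qc
import Groth.Agent.AlgSpLib.Points
import Groth.Agent.AlgSpLib.LocP
import Groth.Agent.ModEtQcLib.AssPush

/-!
# Separating closed sets on fibre products with affine approximations
-/

set_option autoImplicit false
set_option backward.isDefEq.respectTransparency false
set_option backward.isDefEq.respectTransparency.types false
universe u
open CategoryTheory CategoryTheory.Limits AlgebraicGeometry Opposite AlgSp TopologicalSpace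
open scoped TensorProduct

noncomputable section

namespace SepClosedLib

variable {S : Scheme.{u}}

theorem exists_spec (T : Over S) [IsAffine T.left] :
    ∃ (str : Spec Γ(T.left, ⊤) ⟶ S), Nonempty (Over.mk str ≅ T) :=
  ⟨T.left.isoSpec.inv ≫ T.hom, ⟨Over.isoMk T.left.isoSpec.symm rfl⟩⟩

theorem exists_spec_chart {F : Sp S} {T : Over S} [IsAffine T.left] (a : (yon S).obj T ⟶ F) (ha : RepWith @Etale a) :
    ∃ (R : CommRingCat.{u}) (str : Spec R ⟶ S) (a' : (yon S).obj (Over.mk str) ⟶ F), RepWith @Etale a' ∧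
      (Function.Surjective (Points.ofPt a) → Function.Surjective (Points.ofPt a')) ∧
      Set.range (Points.ofPt a) ⊆ Set.range (Points.ofPt a') := by
  obtain ⟨str, ⟨e⟩⟩ := exists_spec T
  have hsub : Set.range (Points.ofPt a) ⊆ Set.range (Points.ofPt ((yon S).map e.hom ≫ a)) := by
    rintro _ ⟨t, rfl⟩
    refine ⟨e.inv.left t, ?_⟩
    rw [← AlgSpLib.ofPt_yon_comp, ← Category.assoc, ← Functor.map_comp, e.inv_hom_id, CategoryTheory.Functor.map_id, Category.id_comp]
  refine ⟨_, str, (yon S).map e.hom ≫ a, AlgSpLib.repWith_comp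
    ((repWith_yon_map_iff @Etale _).2 (inferInstanceAs (Etale ((Over.forget S).mapIso e).hom))) ha,
    fun h x => ?_, hsub⟩
  exact hsub (h x)

theorem exists_over_spec {F : Sp S} (hF : IsQuasiCompactSp F) :
    ∃ (R : CommRingCat.{u}) (str : Spec R ⟶ S) (a : (yon S).obj (Over.mk str) ⟶ F),
      RepWith @Etale a ∧ RepWith @Surjective a := by
  obtain ⟨E, p, hE, hp, hps⟩ := AlgSpLib.exists_affine_chart hF
  haveI := hE
  obtain ⟨R, str, a, ha, hs, -⟩ := exists_spec_chart p hp
  refine ⟨R, str, a, ha, (AlgSpLib.repWith_surjective_iff ha.1).2 fun x => ?_⟩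
  obtain ⟨t, rfl⟩ := hs (AlgSpLib.surjective_ofPt hps) x
  exact ⟨Points.ofScheme _ t, (Points.ofPt_eq_map_ofScheme a t).symm⟩

theorem main {X Y Z : Space S} (f : X ⟶ Y) (g : Z ⟶ Y) (hf : IsQuasiCompactMor f.hom)
    (P : Sp S) (p₁ : P ⟶ X.obj) (p₂ : P ⟶ Z.obj) (hP : IsPullback p₁ p₂ f.hom g.hom)
    (z : Points Z.obj) (T : Set (Points P)) (hT : IsClosed T) (hz : z ∉ Points.map p₂ '' T) :
    ∃ (V : Over S) (_ : IsAffine V.left) (e : (yon S).obj V ⟶ Z.obj) (_ : RepWith @Etale e) (v : ↥V.left)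
      (_ : Points.map e (Points.schemeEquiv V v) = z)
      (Z' : Over S) (_ : IsAffine Z'.left) (b : (yon S).obj Z' ⟶ Y.obj) (_ : LocP @LocallyOfFinitePresentation b)
      (a : V ⟶ Z') (_ : (yon S).map a ≫ b = e ≫ g.hom),
      ∀ (P' : Sp S) (q₁ : P' ⟶ X.obj) (q₂ : P' ⟶ (yon S).obj Z'), IsPullback q₁ q₂ f.hom b →
        ∃ T' : Set (Points P'), IsClosed T' ∧
          Points.schemeEquiv Z' (a.left v) ∉ Points.map q₂ '' T' ∧
          ∀ (PV : Sp S) (r₁ : PV ⟶ X.obj) (r₂ : PV ⟶ (yon S).obj V), IsPullback r₁ r₂ f.hom (e ≫ g.hom) →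
            ∀ (κ₁ : PV ⟶ P) (κ₂ : PV ⟶ P'), κ₁ ≫ p₁ = r₁ → κ₁ ≫ p₂ = r₂ ≫ e → κ₂ ≫ q₁ = r₁ →
              κ₂ ≫ q₂ = r₂ ≫ (yon S).map a →
              ∀ w : Points PV, Points.map κ₁ w ∈ T → Points.map κ₂ w ∈ T' := by
  classical
  obtain ⟨EU, hEU, u₀, hu₀⟩ := ModEtQc.exists_chart Y.property (Points.map g.hom z)
  haveI := hEU
  obtain ⟨B, sB, pU, hpU, -, hrU⟩ := exists_spec_chart EU.obj.hom EU.property
  obtain ⟨u, hu⟩ := hrU ⟨u₀, rfl⟩
  rw [hu₀] at hu
  let U : Over S := Over.mk sB
  have sqZ := IsPullback.of_hasPullback g.hom pU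
  obtain ⟨zz, hzz1, -⟩ := AlgSpLib.exists_point_isPullback sqZ z (Points.schemeHomeo U u) (by
    rw [← hu, AlgSpLib.ofPt_comp_ofScheme]; rfl)
  obtain ⟨EV, hEV, v₀, hv₀⟩ := ModEtQc.exists_chart
    (AlgSpLib.isAlgSpace_pullback Z.property (IsAlgSpace.yon_obj U) Y.property g.hom pU) zz
  haveI := hEV
  obtain ⟨A, sA, cV, hcV, -, hrV⟩ := exists_spec_chart EV.obj.hom EV.property
  obtain ⟨v, hv⟩ := hrV ⟨v₀, rfl⟩
  rw [hv₀] at hv
  let V : Over S := Over.mk sA
  let e := cV ≫ pullback.fst g.hom pU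
  have he : RepWith @Etale e := AlgSpLib.repWith_comp hcV (AlgSpLib.repWith_of_isPullback sqZ.flip hpU)
  have hev : Points.map e (Points.schemeEquiv V v) = z := by
    rw [Points.map_comp]
    change Points.map _ (Points.map cV (Points.ofScheme V v)) = z
    rw [← Points.ofPt_eq_map_ofScheme, hv, hzz1]
  obtain ⟨h, hh⟩ := (yon S).map_surjective (cV ≫ pullback.snd g.hom pU)
  obtain ⟨ρA, hρA⟩ := Spec.map_surjective h.left
  haveI : CompactSpace U.left := inferInstanceAs (CompactSpace (Spec B))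
  have hXU : IsQuasiCompactSp (pullback f.hom pU) :=
    hf (IsAlgSpace.yon_obj U) (AlgSpLib.isQuasiCompactSp_yon U) pU _ _ (IsPullback.of_hasPullback f.hom pU)
  obtain ⟨C, sC, wp, hwp, hwps⟩ := exists_over_spec hXU
  obtain ⟨kW, hkW⟩ := (yon S).map_surjective (wp ≫ pullback.snd f.hom pU)
  obtain ⟨ρC, hρC⟩ := Spec.map_surjective kW.left
  letI : Algebra B A := ρA.hom.toAlgebra
  letI : Algebra B C := ρC.hom.toAlgebra
  let WV : Over S := Over.mk (Spec.map (CommRingCat.ofHom (Algebra.TensorProduct.includeRight (R := B) (A := C) (B := A)).toRingHom) ≫ sA)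
  let sndV : WV ⟶ V := Over.homMk (Spec.map (CommRingCat.ofHom (Algebra.TensorProduct.includeRight (R := B) (A := C) (B := A)).toRingHom)) rfl
  have sqS := isPullback_SpecMap_of_isPushout _ _ _ _ (CommRingCat.isPushout_tensorProduct B C A)
  have wkW : Spec.map ρC ≫ sB = sC := by rw [hρC]; exact Over.w kW
  have wh : Spec.map ρA ≫ sB = sA := by rw [hρA]; exact Over.w h
  let fstV : WV ⟶ Over.mk sC := Over.homMk (Spec.map (CommRingCat.ofHom (Algebra.TensorProduct.includeLeftRingHom : C →+* C ⊗[B] A))) (by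
    change _ ≫ sC = Spec.map _ ≫ sA
    rw [← wkW, ← wh]
    exact (sqS.w_assoc sB))
  have sqV : IsPullback ((yon S).map fstV) ((yon S).map sndV) (wp ≫ pullback.snd f.hom pU) ((yon S).map h) := by
    rw [← hkW]
    refine IsPullback.map (yon S) (IsPullback.of_map (Over.forget S)
      (Over.OverMorphism.ext ?_) ?_)
    · change Spec.map _ ≫ kW.left = Spec.map _ ≫ h.left
      rw [← hρC, ← hρA]
      exact sqS.w
    · change IsPullback (Spec.map _) (Spec.map _) kW.left h.left
      rw [← hρC, ← hρA]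
      exact sqS
  let m : (yon S).obj WV ⟶ P := hP.lift ((yon S).map fstV ≫ wp ≫ pullback.fst f.hom pU) ((yon S).map sndV ≫ e) (by
    rw [Category.assoc, Category.assoc, Category.assoc, pullback.condition, ← Category.assoc, ← Category.assoc,
      Category.assoc ((yon S).map fstV), sqV.w, hh]
    simp only [e, Category.assoc, pullback.condition])
  let TW : Set WV.left := Points.ofPt m ⁻¹' T
  have hTW : IsClosed TW := hT.preimage (Points.continuous_ofPt m)
  obtain ⟨J, hJ⟩ : ∃ J : Ideal (C ⊗[B] A), (PrimeSpectrum.zeroLocus (J : Set (C ⊗[B] A))) = TW := by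
    obtain ⟨J, hJ⟩ := (PrimeSpectrum.isClosed_iff_zeroLocus_ideal TW).1 hTW
    exact ⟨J, hJ.symm⟩
  let p : Ideal A := (show PrimeSpectrum A from v).asIdeal
  obtain ⟨n, φ, j, hjJ, hj⟩ := exists_poly J p fun Q hQ hJQ hQp => hz (by
    let t : PrimeSpectrum (C ⊗[B] A) := ⟨Q, hQ⟩
    refine ⟨Points.ofPt m t, ?_, ?_⟩
    · change t ∈ TW
      rw [← hJ]
      exact hJQ
    · rw [Points.map_ofPt, hP.lift_snd, AlgSpLib.ofPt_yon_comp, Points.ofPt_eq_map_ofScheme]
      rw [show sndV.left t = v from PrimeSpectrum.ext hQp]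
      exact hev)
  let A' := MvPolynomial (Option (Fin n)) B
  let Z' : Over S := Over.mk (Spec.map (CommRingCat.ofHom (algebraMap B A')) ≫ sB)
  let qZ : Z' ⟶ U := Over.homMk (Spec.map (CommRingCat.ofHom (algebraMap B A'))) rfl
  let b := (yon S).map qZ ≫ pU
  have hb : LocP @LocallyOfFinitePresentation b := by
    refine AlgSpLib.locP_of_repWith (AlgSpLib.repWith_comp ((repWith_yon_map_iff @LocallyOfFinitePresentation qZ).2 ?_)
      (AlgSpLib.repWith_mono (fun _ _ g (hg : Etale g) => (inferInstance : LocallyOfFinitePresentation g)) hpU))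
    refine (HasRingHomProperty.Spec_iff (P := @LocallyOfFinitePresentation)).2 ?_
    exact RingHom.finitePresentation_algebraMap.2 inferInstance
  have hφ : CommRingCat.ofHom (algebraMap B A') ≫ CommRingCat.ofHom φ.toRingHom = ρA :=
    CommRingCat.hom_ext (RingHom.ext fun x => φ.commutes x)
  let a : V ⟶ Z' := Over.homMk (Spec.map (CommRingCat.ofHom φ.toRingHom)) (by
    change Spec.map _ ≫ Spec.map _ ≫ sB = sA
    rw [← Category.assoc, ← Spec.map_comp, hφ, wh])
  have haq : a ≫ qZ = h := Over.OverMorphism.ext (by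
    change Spec.map _ ≫ Spec.map _ = h.left
    rw [← Spec.map_comp, hφ, hρA])
  have hab : (yon S).map a ≫ b = e ≫ g.hom := by
    simp only [b, e, ← Category.assoc, ← Functor.map_comp, haq, hh]
    simp only [Category.assoc, pullback.condition]
  refine ⟨V, inferInstanceAs (IsAffine (Spec A)), e, he, v, hev, Z', inferInstanceAs (IsAffine (Spec _)), b, hb, a, hab,
    fun P' q₁ q₂ hP' => ?_⟩
  let W' : Over S := Over.mk (Spec.map (CommRingCat.ofHom (Algebra.TensorProduct.includeRight (R := B) (A := C) (B := A')).toRingHom) ≫ Z'.hom)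
  let snd' : W' ⟶ Z' := Over.homMk (Spec.map (CommRingCat.ofHom (Algebra.TensorProduct.includeRight (R := B) (A := C) (B := A')).toRingHom)) rfl
  have sqS' := isPullback_SpecMap_of_isPushout _ _ _ _ (CommRingCat.isPushout_tensorProduct B C A')
  let fst' : W' ⟶ Over.mk sC := Over.homMk (Spec.map (CommRingCat.ofHom (Algebra.TensorProduct.includeLeftRingHom : C →+* C ⊗[B] A'))) (by
    change _ ≫ sC = Spec.map _ ≫ Spec.map _ ≫ sB
    rw [← wkW]
    exact (sqS'.w_assoc sB))
  have sq' : IsPullback ((yon S).map fst') ((yon S).map snd') (wp ≫ pullback.snd f.hom pU) ((yon S).map qZ) := by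
    rw [← hkW]
    refine IsPullback.map (yon S) (IsPullback.of_map (Over.forget S)
      (Over.OverMorphism.ext ?_) ?_)
    · change Spec.map _ ≫ kW.left = Spec.map _ ≫ Spec.map _
      rw [← hρC]
      exact sqS'.w
    · change IsPullback (Spec.map _) (Spec.map _) kW.left (Spec.map _)
      rw [← hρC]
      exact sqS'
  let κU : P' ⟶ pullback f.hom pU := pullback.lift q₁ (q₂ ≫ (yon S).map qZ) (by rw [hP'.w, Category.assoc])
  have sqP' : IsPullback κU q₂ (pullback.snd f.hom pU) ((yon S).map qZ) :=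
    IsPullback.of_right (by rw [pullback.lift_fst]; exact hP') (pullback.lift_snd _ _ _)
      (IsPullback.of_hasPullback f.hom pU)
  let π' : (yon S).obj W' ⟶ P' := sqP'.lift ((yon S).map fst' ≫ wp) ((yon S).map snd') (by rw [Category.assoc]; exact sq'.w)
  have sqπ' : IsPullback π' ((yon S).map fst') κU wp :=
    IsPullback.of_right (by rw [sqP'.lift_snd]; exact sq'.flip) (sqP'.lift_fst _ _ _) sqP'.flip
  have hπ' : RepWith @Etale π' := AlgSpLib.repWith_of_isPullback sqπ'.flip hwp
  have hπs : Function.Surjective (Points.ofPt π') :=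
    AlgSpLib.surjective_ofPt (AlgSpLib.repWith_of_isPullback sqπ'.flip hwps)
  let D : Set W'.left := {t | j ∉ (show PrimeSpectrum (C ⊗[B] A') from t).asIdeal}
  have hD : IsOpen D := (PrimeSpectrum.basicOpen j).2
  refine ⟨(Points.ofPt π' '' D)ᶜ, (AlgSpLib.isOpenMap_ofPt hπ' _ hD).isClosed_compl, ?_, ?_⟩
  · rintro ⟨w', hw', hw'v⟩
    obtain ⟨t, rfl⟩ := hπs w'
    refine hj (show PrimeSpectrum (C ⊗[B] A') from t).asIdeal inferInstance ?_
      (Classical.not_not.1 fun hn => hw' ⟨t, hn, rfl⟩)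
    rw [Points.map_ofPt, sqP'.lift_snd] at hw'v
    have h1 : Points.ofPt ((yon S).map snd' ≫ 𝟙 ((yon S).obj Z')) t = Points.ofPt (𝟙 ((yon S).obj Z')) (a.left v) := by
      rw [Category.comp_id, hw'v]; rfl
    rw [AlgSpLib.ofPt_yon_comp] at h1
    exact congrArg PrimeSpectrum.asIdeal ((Points.schemeHomeo Z').injective h1 : snd'.left t = a.left v)
  · intro PV r₁ r₂ hPV κ₁ κ₂ h1 h2 h3 h4 w hw
    rintro ⟨t', ht', hκ⟩
    have sqPV : IsPullback (κ₂ ≫ κU) r₂ (pullback.snd f.hom pU) ((yon S).map h) := by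
      refine IsPullback.of_right ?_ ?_ (IsPullback.of_hasPullback f.hom pU)
      · rw [Category.assoc, pullback.lift_fst, h3, ← haq, Functor.map_comp, Category.assoc]
        rw [show (yon S).map qZ ≫ pU = b from rfl, hab]
        exact hPV
      · rw [Category.assoc, pullback.lift_snd, ← Category.assoc, h4, Category.assoc, ← Functor.map_comp, haq]
    let πV : (yon S).obj WV ⟶ PV := sqPV.lift ((yon S).map fstV ≫ wp) ((yon S).map sndV) (by rw [Category.assoc]; exact sqV.w)
    let r : WV ⟶ W' := Over.homMk (Spec.map (CommRingCat.ofHom (Algebra.TensorProduct.map (AlgHom.id B C) φ).toRingHom)) (by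
      change Spec.map _ ≫ Spec.map _ ≫ Z'.hom = Spec.map _ ≫ sA
      rw [show sA = Spec.map (CommRingCat.ofHom φ.toRingHom) ≫ Z'.hom from (Over.w a).symm, ← Category.assoc,
        ← Category.assoc, ← Spec.map_comp, ← Spec.map_comp]
      congr 2
      all_goals (ext x; simp))
    have hr1 : r ≫ fst' = fstV := Over.OverMorphism.ext (by
      change Spec.map _ ≫ Spec.map _ = Spec.map _
      rw [← Spec.map_comp]
      congr 1
      ext x
      simp)
    have hr2 : r ≫ snd' = sndV ≫ a := Over.OverMorphism.ext (by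
      change Spec.map _ ≫ Spec.map _ = Spec.map _ ≫ Spec.map _
      rw [← Spec.map_comp, ← Spec.map_comp]
      congr 1
      all_goals (ext x; simp))
    have sqπV : IsPullback πV ((yon S).map fstV) (κ₂ ≫ κU) wp :=
      IsPullback.of_right (by rw [sqPV.lift_snd]; exact sqV.flip) (sqPV.lift_fst _ _ _) sqPV.flip
    have hrπ : πV ≫ κ₂ = (yon S).map r ≫ π' := by
      refine sqP'.hom_ext ?_ ?_
      · rw [Category.assoc, sqPV.lift_fst, Category.assoc, sqP'.lift_fst, ← Category.assoc, ← Functor.map_comp, hr1]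
      · rw [Category.assoc, h4, ← Category.assoc, sqPV.lift_snd, Category.assoc, sqP'.lift_snd, ← Functor.map_comp,
          ← Functor.map_comp, hr2]
    have hmm : πV ≫ κ₁ = m := by
      refine hP.hom_ext ?_ ?_
      · rw [Category.assoc, h1, hP.lift_fst, show r₁ = (κ₂ ≫ κU) ≫ pullback.fst f.hom pU by
          rw [Category.assoc, pullback.lift_fst, h3], ← Category.assoc, sqPV.lift_fst]
        simp only [Category.assoc]
      · rw [Category.assoc, h2, ← Category.assoc, sqPV.lift_snd, hP.lift_snd]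
    have big : IsPullback ((yon S).map r) πV π' κ₂ := IsPullback.of_right
      (by rw [← Functor.map_comp, hr1]; exact sqπV.flip) hrπ.symm sqπ'.flip
    obtain ⟨s, hs1, hs2⟩ := AlgSpLib.exists_point_isPullback big (Points.schemeHomeo W' t') w (by
      rw [← hκ, AlgSpLib.ofPt_comp_ofScheme]; rfl)
    obtain ⟨s, rfl⟩ := (Points.schemeHomeo WV).surjective s
    rw [Points.map_yon_map_apply] at hs1
    have hst : r.left s = t' := (Points.schemeHomeo W').injective hs1
    have hsT : s ∈ TW := by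
      change Points.ofPt m s ∈ T
      rw [← hmm, ← Points.map_ofPt, AlgSpLib.ofPt_comp_ofScheme, Function.comp_apply, hs2]
      exact hw
    rw [← hJ] at hsT
    refine ht' ?_
    rw [← hst]
    exact hsT hjJ

end SepClosedLib
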