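import Mathlib.RingTheory.TensorProduct.Basic
import Mathlib.RingTheory.Ideal.Maps
import Mathlib.RingTheory.Spectrum.Prime.Basic
import Mathlib.Algebra.MvPolynomial.Eval
import Mathlib.Algebra.BigOperators.Fin
import Mathlib.RingTheory.TensorProduct.Maps

/-!
# Separating a closed set from a fibre after a finitely presented approximation
-/

set_option autoImplicit false
universe u
open scoped TensorProduct

namespace SepClosedLib

variable {B C A : Type u} [CommRing B] [CommRing C] [CommRing A] [Algebra B C] [Algebra B A]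

theorem exists_poly (J : Ideal (C ⊗[B] A)) (p : Ideal A) [p.IsPrime]
    (h : ∀ Q : Ideal (C ⊗[B] A), Q.IsPrime → J ≤ Q →
      Q.comap (Algebra.TensorProduct.includeRight (R := B) (A := C) (B := A)).toRingHom ≠ p) :
    ∃ (n : ℕ) (φ : MvPolynomial (Option (Fin n)) B →ₐ[B] A) (j : C ⊗[B] MvPolynomial (Option (Fin n)) B),
      Algebra.TensorProduct.map (AlgHom.id B C) φ j ∈ J ∧
      ∀ Q : Ideal (C ⊗[B] MvPolynomial (Option (Fin n)) B), Q.IsPrime →
        Q.comap (Algebra.TensorProduct.includeRight (R := B) (A := C)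
          (B := MvPolynomial (Option (Fin n)) B)).toRingHom = p.comap φ.toRingHom → j ∉ Q := by
  classical
  let ι : A →+* C ⊗[B] A := (Algebra.TensorProduct.includeRight (R := B) (A := C) (B := A)).toRingHom
  have h0 : ¬ Disjoint ((J ⊔ p.map ι : Ideal _) : Set (C ⊗[B] A)) (p.primeCompl.map ι : Submonoid _) := by
    intro hd
    obtain ⟨Q, hQ, hle, hQd⟩ := Ideal.exists_le_prime_disjoint _ _ hd
    refine h Q hQ (le_sup_left.trans hle) (le_antisymm (fun a ha => ?_) ?_)
    · by_contra hn
      exact Set.disjoint_left.1 hQd ha ⟨a, hn, rfl⟩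
    · exact Ideal.map_le_iff_le_comap.1 (le_sup_right.trans hle)
  obtain ⟨_, hx, g, hg, rfl⟩ := Set.not_disjoint_iff.1 h0
  obtain ⟨j₀, hj₀, y, hy, hsum⟩ := Submodule.mem_sup.1 hx
  have hrep : ∀ y ∈ p.map ι, ∃ (n : ℕ) (c : Fin n → C) (a : Fin n → A),
      (∀ k, a k ∈ p) ∧ y = ∑ k, c k ⊗ₜ[B] a k := by
    intro y hy
    induction hy using Submodule.span_induction with
    | mem x hx =>
      obtain ⟨a, ha, rfl⟩ := hx
      exact ⟨1, fun _ => 1, fun _ => a, fun _ => ha, by simp [ι]⟩
    | zero => exact ⟨0, Fin.elim0, Fin.elim0, fun k => k.elim0, by simp⟩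
    | add x z _ _ hx hz =>
      obtain ⟨n, c, a, ha, rfl⟩ := hx
      obtain ⟨m, d, b, hb, rfl⟩ := hz
      exact ⟨n + m, Fin.append c d, Fin.append a b,
        fun k => Fin.addCases (fun i => by rw [Fin.append_left]; exact ha i)
          (fun i => by rw [Fin.append_right]; exact hb i) k,
        by simp [Fin.sum_univ_add]⟩
    | smul r x _ hx =>
      obtain ⟨n, c, a, ha, rfl⟩ := hx
      induction r using TensorProduct.induction_on with
      | zero => exact ⟨0, Fin.elim0, Fin.elim0, fun k => k.elim0, by simp⟩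
      | tmul c' a' =>
        refine ⟨n, fun k => c' * c k, fun k => a' * a k, fun k => p.mul_mem_left _ (ha k), ?_⟩
        rw [smul_eq_mul, Finset.mul_sum]
        simp [Algebra.TensorProduct.tmul_mul_tmul]
      | add r r' hr hr' =>
        obtain ⟨m₁, d₁, b₁, hb₁, e₁⟩ := hr
        obtain ⟨m₂, d₂, b₂, hb₂, e₂⟩ := hr'
        exact ⟨m₁ + m₂, Fin.append d₁ d₂, Fin.append b₁ b₂,
          fun k => Fin.addCases (fun i => by rw [Fin.append_left]; exact hb₁ i)
            (fun i => by rw [Fin.append_right]; exact hb₂ i) k,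
          by rw [add_smul, e₁, e₂]; simp [Fin.sum_univ_add]⟩
  obtain ⟨n, c, a, ha, rfl⟩ := hrep y hy
  let val : Option (Fin n) → A := fun o => o.elim g a
  refine ⟨n, MvPolynomial.aeval val,
    (1 : C) ⊗ₜ MvPolynomial.X none - ∑ k, c k ⊗ₜ MvPolynomial.X (some k), ?_, fun Q hQ hQp hj => ?_⟩
  · rw [map_sub, map_sum]
    simp only [Algebra.TensorProduct.map_tmul, AlgHom.coe_id, id_eq, MvPolynomial.aeval_X, val, Option.elim]
    rw [show (1 : C) ⊗ₜ[B] g - ∑ k, c k ⊗ₜ[B] a k = j₀ by rw [eq_sub_of_add_eq hsum]; rfl]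
    exact hj₀
  · have h1 : ∑ k, c k ⊗ₜ[B] (MvPolynomial.X (some k) : MvPolynomial (Option (Fin n)) B) ∈ Q := by
      refine Q.sum_mem fun k _ => ?_
      rw [show c k ⊗ₜ[B] (MvPolynomial.X (some k) : MvPolynomial (Option (Fin n)) B) =
        (c k ⊗ₜ[B] 1) * ((1 : C) ⊗ₜ[B] MvPolynomial.X (some k)) by simp [Algebra.TensorProduct.tmul_mul_tmul]]
      refine Q.mul_mem_left _ ?_
      change MvPolynomial.X (some k) ∈ Q.comap
        (Algebra.TensorProduct.includeRight (R := B) (A := C) (B := MvPolynomial (Option (Fin n)) B)).toRingHom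
      rw [hQp]
      change MvPolynomial.aeval val (MvPolynomial.X (some k)) ∈ p
      rw [MvPolynomial.aeval_X]
      exact ha k
    have h2 := Q.add_mem hj h1
    rw [sub_add_cancel] at h2
    have h3 : (MvPolynomial.X none : MvPolynomial (Option (Fin n)) B) ∈ Q.comap
        (Algebra.TensorProduct.includeRight (R := B) (A := C) (B := MvPolynomial (Option (Fin n)) B)).toRingHom := h2
    rw [hQp] at h3
    change MvPolynomial.aeval val (MvPolynomial.X none) ∈ p at h3
    rw [MvPolynomial.aeval_X] at h3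
    exact hg h3

end SepClosedLib
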